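import Mathlib

/-!
# Counting the union of the conjugates of a "strongly closed" subset (lead)
-/

set_option autoImplicit false

namespace Cfsg.Agent.ReeCount

section

variable {G : Type*} [Group G]

/-- Let `N ≤ G` and `S ⊆ G` be a subset normalised by `N` such that `x ∈ S`, `g x g⁻¹ ∈ S` force
`g ∈ N`.  Then the union of the conjugates of `S` has `|G : N| · |S|` elements. -/
theorem card_conj_union (N : Subgroup G) (S : Set G)
    (hN : ∀ n ∈ N, ∀ x ∈ S, n * x * n⁻¹ ∈ S)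
    (hS : ∀ g x, x ∈ S → g * x * g⁻¹ ∈ S → g ∈ N) :
    Nat.card {y : G // ∃ g x, x ∈ S ∧ y = g * x * g⁻¹} * Nat.card N
      = Nat.card G * Nat.card S := by
  classical
  rw [← Nat.card_prod, ← Nat.card_prod]
  let gy : {y : G // ∃ g x, x ∈ S ∧ y = g * x * g⁻¹} → G := fun y => Classical.choose y.2
  let xy : {y : G // ∃ g x, x ∈ S ∧ y = g * x * g⁻¹} → G := fun y =>
    Classical.choose (Classical.choose_spec y.2)
  have hxy : ∀ y, xy y ∈ S := fun y => (Classical.choose_spec (Classical.choose_spec y.2)).1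
  have hy : ∀ y : {y : G // ∃ g x, x ∈ S ∧ y = g * x * g⁻¹},
      (y : G) = gy y * xy y * (gy y)⁻¹ :=
    fun y => (Classical.choose_spec (Classical.choose_spec y.2)).2
  let Φ : {y : G // ∃ g x, x ∈ S ∧ y = g * x * g⁻¹} × N → G × S := fun p =>
    (gy p.1 * (p.2 : G), ⟨(p.2 : G)⁻¹ * xy p.1 * (p.2 : G), by
      have := hN (p.2 : G)⁻¹ (N.inv_mem p.2.2) (xy p.1) (hxy p.1)
      rwa [inv_inv] at this⟩)
  apply Nat.card_congr
  refine Equiv.ofBijective Φ ⟨?_, ?_⟩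
  · rintro ⟨y, n⟩ ⟨y', n'⟩ h
    have h1 : gy y * (n : G) = gy y' * (n' : G) := congrArg Prod.fst h
    have h2 : (n : G)⁻¹ * xy y * (n : G) = (n' : G)⁻¹ * xy y' * (n' : G) :=
      congrArg (fun p : G × S => (p.2 : G)) h
    have hyy : y = y' := by
      apply Subtype.ext
      rw [hy y, hy y']
      calc gy y * xy y * (gy y)⁻¹
          = (gy y * (n : G)) * ((n : G)⁻¹ * xy y * (n : G)) * (gy y * (n : G))⁻¹ := by group
        _ = (gy y' * (n' : G)) * ((n' : G)⁻¹ * xy y' * (n' : G)) * (gy y' * (n' : G))⁻¹ := by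
            rw [h1, h2]
        _ = gy y' * xy y' * (gy y')⁻¹ := by group
    subst hyy
    have : (n : G) = (n' : G) := mul_left_cancel h1
    rw [Subtype.ext this]
  · rintro ⟨g, x⟩
    let y : {y : G // ∃ g x, x ∈ S ∧ y = g * x * g⁻¹} := ⟨g * (x : G) * g⁻¹, g, x, x.2, rfl⟩
    have e : gy y * xy y * (gy y)⁻¹ = g * (x : G) * g⁻¹ := (hy y).symm
    have hconj : ((gy y)⁻¹ * g) * (x : G) * ((gy y)⁻¹ * g)⁻¹ = xy y := by
      calc ((gy y)⁻¹ * g) * (x : G) * ((gy y)⁻¹ * g)⁻¹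
          = (gy y)⁻¹ * (g * (x : G) * g⁻¹) * gy y := by group
        _ = (gy y)⁻¹ * (gy y * xy y * (gy y)⁻¹) * gy y := by rw [e]
        _ = xy y := by group
    have hn : (gy y)⁻¹ * g ∈ N := hS _ _ x.2 (by rw [hconj]; exact hxy y)
    refine ⟨(y, ⟨(gy y)⁻¹ * g, hn⟩), ?_⟩
    apply Prod.ext
    · show gy y * ((gy y)⁻¹ * g) = g
      group
    · apply Subtype.ext
      show ((gy y)⁻¹ * g)⁻¹ * xy y * ((gy y)⁻¹ * g) = (x : G)
      rw [← hconj]
      group

end

end Cfsg.Agent.ReeCount
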